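import Cfsg.Agent.H884.ElFin
import Cfsg.Agent.H453.OddM.Defs
import Cfsg.Agent.ClassicalGeometry.Reflection

/-!
# S4785 (TEAM ODDM), B-ROW: invariant points of subgroups of odd index (helper270)

`exists_sq` : `Q` has an orthonormal frame `e` (all `Q (e i) = 1`), `R ≤ PΩ(Q)` has odd index and stabilises the
non-singular point `⟨v⟩`: then `Q v` is a square.
`isPlus_of_sq` : for `quadFormOdd`, `Q v = c²`: the space `v^⊥` has plus type.
-/

set_option autoImplicit false

namespace Cfsg.Agent.H270.Odm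

open Module QuadraticMap Matrix Cfsg Cfsg.Geo Cfsg.Agent.H955 Cfsg.Agent.ClassicalGeometry.Reflection
open Cfsg.Agent.H884.El (pre mem_pre)
open Cfsg.Agent.LieClassical.OrthCore Cfsg.Agent.LieClassical.OrthForms
open scoped MatrixGroups commutatorElement

section Frame

variable {ι : Type} [Fintype ι] [DecidableEq ι] {F : Type} [Field F] {I : Type}

/-- an orthonormal frame -/
structure ON (Q : QuadraticForm F (ι → F)) (e : I → ι → F) : Prop where
  one : ∀ i, Q (e i) = 1
  orth : ∀ i j, i ≠ j → polar Q (e i) (e j) = 0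
  full : ∀ u, (∀ i, polar Q (e i) u = 0) → u = 0
  three : ∀ i j : I, ∃ k, k ≠ i ∧ k ≠ j

/-- the matrix of an isometry -/
abbrev mt {q : (ι → F) → F} (g : isometryGroup F q) : Matrix ι ι F := ((g : GL ι F) : Matrix ι ι F)

variable {Q : QuadraticForm F (ι → F)}

theorem mt_isom (g : isometryGroup F ⇑Q) (v : ι → F) : Q (mt g *ᵥ v) = Q v :=
  (mem_isometryGroup_iff ⇑Q _).1 g.2 v

theorem mt_polar (g : isometryGroup F ⇑Q) (v w : ι → F) : polar ⇑Q (mt g *ᵥ v) (mt g *ᵥ w) = polar ⇑Q v w :=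
  polar_mulVec_of_isometry Q _ (mt_isom g) v w

theorem mt_mul_vec {q : (ι → F) → F} (g h : isometryGroup F q) (v : ι → F) : mt (g * h) *ᵥ v = mt g *ᵥ (mt h *ᵥ v) :=
  coe_mul_mulVec q g h v

theorem mt_one_vec {q : (ι → F) → F} (v : ι → F) : mt (1 : isometryGroup F q) *ᵥ v = v :=
  Matrix.one_mulVec v

theorem mt_inv_vec {q : (ι → F) → F} (g : isometryGroup F q) (v : ι → F) : mt g *ᵥ (mt g⁻¹ *ᵥ v) = v := by
  rw [← mt_mul_vec, mul_inv_cancel, mt_one_vec]

theorem mt_inv_vec' {q : (ι → F) → F} (g : isometryGroup F q) (v : ι → F) : mt g⁻¹ *ᵥ (mt g *ᵥ v) = v := by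
  rw [← mt_mul_vec, inv_mul_cancel, mt_one_vec]

/-- two vectors with the same nonzero value are conjugate -/
theorem exists_isom (h2 : (2 : F) ≠ 0) {u w : ι → F} (h : Q u = Q w) (h0 : Q w ≠ 0) :
    ∃ g : isometryGroup F ⇑Q, mt g *ᵥ u = w := by
  by_cases h1 : Q (u - w) = 0
  · have h3 : Q (u - -w) ≠ 0 := by
      intro h3
      apply h0
      have h4 : Q (u + w) = 0 := by rwa [sub_neg_eq_add] at h3
      rw [map_add'] at h4
      rw [sub_eq_add_neg, map_add', QuadraticMap.map_neg, QuadraticMap.polar_neg_right] at h1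
      have h5 : 2 * (2 * Q w) = 0 := by
        rw [h] at h1 h4
        linear_combination h1 + h4
      exact (mul_eq_zero.1 ((mul_eq_zero.1 h5).resolve_left h2)).resolve_left h2
    refine ⟨reflIso Q w h0 * reflIso Q (u - -w) h3, ?_⟩
    rw [mt_mul_vec]
    have h4 : mt (reflIso Q (u - -w) h3) *ᵥ u = -w :=
      reflectionMatrix_sub_mulVec Q u (-w) (by rw [QuadraticMap.map_neg, h]) h3
    rw [h4]
    show reflectionMatrix (⇑Q) w *ᵥ (-w) = w
    rw [Matrix.mulVec_neg, reflectionMatrix_mulVec_self Q w h0, neg_neg]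
  · exact ⟨reflIso Q (u - w) h1, reflectionMatrix_sub_mulVec Q u w h h1⟩

variable {e : I → ι → F}

/-- the reflections of the frame -/
noncomputable def rr (h : ON Q e) (i : I) : isometryGroup F ⇑Q :=
  reflIso Q (e i) (by rw [h.one]; exact one_ne_zero)

theorem rr_self (h : ON Q e) (i : I) : mt (rr h i) *ᵥ e i = -e i :=
  reflectionMatrix_mulVec_self Q (e i) (by rw [h.one]; exact one_ne_zero)

theorem rr_ne (h : ON Q e) {i j : I} (hij : i ≠ j) : mt (rr h i) *ᵥ e j = e j :=
  reflectionMatrix_mulVec_of_polar_eq_zero Q _ _ (h.orth i j hij)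

theorem rr_mul_mem (h2 : (2 : F) ≠ 0) (h : ON Q e) {i j : I} (hij : i ≠ j) :
    rr h i * rr h j ∈ Omega F ⇑Q := by
  have h1 : Q (e i - e j) ≠ 0 := by
    rw [sub_eq_add_neg, map_add', QuadraticMap.map_neg, QuadraticMap.polar_neg_right, h.orth i j hij, h.one, h.one]
    intro h0
    apply h2
    linear_combination h0
  have h3 : mt (reflIso Q (e i - e j) h1) *ᵥ e i = e j :=
    reflectionMatrix_sub_mulVec Q (e i) (e j) (by rw [h.one, h.one]) h1
  have h4 : rr h j = reflIso Q (e i - e j) h1 * rr h i * (reflIso Q (e i - e j) h1)⁻¹ := by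
    have h5 := conj_reflIso Q (e i) (by rw [h.one]; exact one_ne_zero) (reflIso Q (e i - e j) h1)
      (by rw [h3, h.one]; exact one_ne_zero)
    unfold rr
    rw [h5]
    congr 1
    exact h3.symm
  have h5 : rr h i * rr h j = ⁅rr h i, reflIso Q (e i - e j) h1⁆ := by
    have h6 : (rr h i)⁻¹ = rr h i := reflIso_inv Q _ _
    rw [commutatorElement_def, h6]
    conv_lhs => rw [h4]
    group
  rw [h5]
  exact Subgroup.commutator_mem_commutator (Subgroup.mem_top _) (Subgroup.mem_top _)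

/-- the diagonal subgroup -/
def diag (Q : QuadraticForm F (ι → F)) (e : I → ι → F) : Subgroup (Omega F ⇑Q) where
  carrier := {x | ∀ i, mt (x : isometryGroup F ⇑Q) *ᵥ e i = e i ∨ mt (x : isometryGroup F ⇑Q) *ᵥ e i = -e i}
  one_mem' := fun i => Or.inl (mt_one_vec _)
  mul_mem' := by
    intro x y hx hy i
    have h1 : mt ((x * y : Omega F ⇑Q) : isometryGroup F ⇑Q) *ᵥ e i =
        mt (x : isometryGroup F ⇑Q) *ᵥ (mt (y : isometryGroup F ⇑Q) *ᵥ e i) := mt_mul_vec _ _ _
    rw [h1]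
    rcases hy i with h2 | h2 <;> rw [h2]
    · exact hx i
    · rw [Matrix.mulVec_neg]
      rcases hx i with h3 | h3 <;> rw [h3]
      · exact Or.inr rfl
      · exact Or.inl (neg_neg _)
  inv_mem' := by
    intro x hx i
    have h1 : mt ((x⁻¹ : Omega F ⇑Q) : isometryGroup F ⇑Q) *ᵥ (mt (x : isometryGroup F ⇑Q) *ᵥ e i) = e i :=
      mt_inv_vec' _ _
    rcases hx i with h2 | h2
    · rw [h2] at h1
      exact Or.inl h1
    · rw [h2, Matrix.mulVec_neg] at h1
      exact Or.inr (neg_eq_iff_eq_neg.1 h1)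

theorem diag_sq (h : ON Q e) {x : Omega F ⇑Q} (hx : x ∈ diag Q e) : x * x = 1 := by
  apply Subtype.ext
  apply isometryGroup_ext
  intro u
  have h1 : ∀ i, mt ((x * x : Omega F ⇑Q) : isometryGroup F ⇑Q) *ᵥ e i = e i := by
    intro i
    have h2 : mt ((x * x : Omega F ⇑Q) : isometryGroup F ⇑Q) *ᵥ e i =
        mt (x : isometryGroup F ⇑Q) *ᵥ (mt (x : isometryGroup F ⇑Q) *ᵥ e i) := mt_mul_vec _ _ _
    rw [h2]
    rcases hx i with h3 | h3
    · rw [h3, h3]
    · rw [h3, Matrix.mulVec_neg, h3, neg_neg]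
  have h2 : mt ((x * x : Omega F ⇑Q) : isometryGroup F ⇑Q) *ᵥ u - u = 0 := by
    apply h.full
    intro i
    have h3 : polar ⇑Q (e i) (mt ((x * x : Omega F ⇑Q) : isometryGroup F ⇑Q) *ᵥ u) = polar ⇑Q (e i) u := by
      conv_lhs => rw [← h1 i]
      exact mt_polar _ _ _
    rw [QuadraticMap.polar_sub_right, h3, sub_self]
  rw [sub_eq_zero] at h2
  rw [h2]
  exact (mt_one_vec u).symm

theorem diag_pgroup (h : ON Q e) : IsPGroup 2 (diag Q e) := by
  intro x
  refine ⟨1, ?_⟩
  rw [pow_one, pow_two]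
  exact Subtype.ext (diag_sq h x.2)

theorem rr_mem_diag (h2 : (2 : F) ≠ 0) (h : ON Q e) {i j : I} (hij : i ≠ j) :
    (⟨rr h i * rr h j, rr_mul_mem h2 h hij⟩ : Omega F ⇑Q) ∈ diag Q e := by
  intro k
  show mt (rr h i * rr h j) *ᵥ e k = e k ∨ mt (rr h i * rr h j) *ᵥ e k = -e k
  rw [mt_mul_vec]
  by_cases h3 : j = k
  · subst h3
    rw [rr_self, Matrix.mulVec_neg, rr_ne h hij]
    exact Or.inr rfl
  · rw [rr_ne h h3]
    by_cases h4 : i = k
    · subst h4
      rw [rr_self]
      exact Or.inr rfl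
    · rw [rr_ne h h4]
      exact Or.inl rfl

/-- **invariant points of subgroups of odd index** -/
theorem exists_sq [Finite F] (h2 : (2 : F) ≠ 0) (h : ON Q e) {R : Subgroup (POmega F ⇑Q)} (hR : Odd R.index)
    {v : ι → F} (hv : Q v ≠ 0) (hst : pre (⇑Q) R ≤ subspaceStabilizer (Submodule.span F {v})) :
    ∃ c : F, Q v = c ^ 2 := by
  have hfin : Finite (isometryGroup F ⇑Q) := Subtype.finite
  obtain ⟨g, hg⟩ := H453.OddM.Cov.two_group hR
    ((diag_pgroup h).map (QuotientGroup.mk' (Subgroup.center (Omega F ⇑Q))))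
  obtain ⟨g, rfl⟩ := QuotientGroup.mk'_surjective _ g
  -- the vector `u = g⁻¹ v`
  set u : ι → F := mt ((g : isometryGroup F ⇑Q))⁻¹ *ᵥ v with hu
  have hQu : Q u = Q v := mt_isom _ _
  have hinv : ∀ x ∈ diag Q e, ∃ c : F, mt (x : isometryGroup F ⇑Q) *ᵥ u = c • u := by
    intro x hx
    have h3 : (((g * x * g⁻¹ : Omega F ⇑Q) : isometryGroup F ⇑Q) : GL ι F) ∈ pre (⇑Q) R := by
      rw [mem_pre]
      have h4 := hg _ ⟨x, hx, rfl⟩
      rwa [← map_mul, ← map_inv, ← map_mul] at h4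
    have h4 := (hst h3 v).1 (Submodule.mem_span_singleton_self v)
    obtain ⟨c, hc⟩ := Submodule.mem_span_singleton.1 h4
    refine ⟨c, ?_⟩
    have h5 : mt ((g : isometryGroup F ⇑Q) * (x : isometryGroup F ⇑Q) * (g : isometryGroup F ⇑Q)⁻¹) *ᵥ v = c • v :=
      hc.symm
    rw [mt_mul_vec, mt_mul_vec] at h5
    have h6 := congrArg (fun w => mt (g : isometryGroup F ⇑Q)⁻¹ *ᵥ w) h5
    rw [mt_inv_vec', Matrix.mulVec_smul] at h6
    exact h6
  have hne : ∃ k, polar Q (e k) u ≠ 0 := by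
    by_contra hcon
    push Not at hcon
    apply hv
    rw [← hQu, h.full u hcon, QuadraticMap.map_zero]
  obtain ⟨k, hk⟩ := hne
  have hz : ∀ i, i ≠ k → polar Q (e i) u = 0 := by
    intro i hik
    obtain ⟨j, hji, hjk⟩ := h.three i k
    obtain ⟨c, hc⟩ := hinv _ (rr_mem_diag h2 h hji.symm)
    have hc' : mt (rr h i * rr h j) *ᵥ u = c • u := hc
    have h3 : polar Q (e k) u = c * polar Q (e k) u := by
      have h4 : mt (rr h i * rr h j) *ᵥ e k = e k := by
        rw [mt_mul_vec, rr_ne h hjk, rr_ne h hik]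
      calc polar Q (e k) u = polar Q (mt (rr h i * rr h j) *ᵥ e k) (mt (rr h i * rr h j) *ᵥ u) :=
            (mt_polar _ _ _).symm
        _ = c * polar Q (e k) u := by rw [h4, hc', polar_smul_right, smul_eq_mul]
    have h4 : c = 1 := by
      have h5 : (1 - c) * polar Q (e k) u = 0 := by linear_combination h3
      rcases mul_eq_zero.1 h5 with h6 | h6
      · linear_combination -h6
      · exact absurd h6 hk
    have h5 : polar Q (e i) u = -(c * polar Q (e i) u) := by
      have h6 : mt (rr h i * rr h j) *ᵥ e i = -e i := by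
        rw [mt_mul_vec, rr_ne h hji, rr_self]
      calc polar Q (e i) u = polar Q (mt (rr h i * rr h j) *ᵥ e i) (mt (rr h i * rr h j) *ᵥ u) :=
            (mt_polar _ _ _).symm
        _ = -(c * polar Q (e i) u) := by rw [h6, hc', polar_smul_right, polar_neg_left, smul_eq_mul]; ring
    rw [h4, one_mul] at h5
    have h6 : 2 * polar Q (e i) u = 0 := by linear_combination h5
    exact (mul_eq_zero.1 h6).resolve_left h2
  -- `u` is a multiple of `e k`
  have h3 : u = (polar Q (e k) u / 2) • e k := by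
    rw [← sub_eq_zero]
    apply h.full
    intro i
    rw [polar_sub_right, polar_smul_right, smul_eq_mul]
    by_cases hik : i = k
    · subst hik
      rw [LieClassical.OrthCore.polar_self', h.one, mul_one, div_mul_cancel₀ _ h2, sub_self]
    · rw [hz i hik, h.orth i k hik, mul_zero, sub_zero]
  refine ⟨polar Q (e k) u / 2, ?_⟩
  rw [← hQu]
  conv_lhs => rw [h3]
  rw [QuadraticMap.map_smul, h.one, smul_eq_mul, mul_one, pow_two]

end Frame

end Cfsg.Agent.H270.Odm
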