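import Cfsg.Agent.H270.Odm.Frame

/-!
# S4785 (TEAM ODDM), B-ROW: an orthonormal frame for `quadFormOdd m F`, `m` even (helper270)
-/

set_option autoImplicit false

namespace Cfsg.Agent.H270.Odm

open Module QuadraticMap Matrix Cfsg Cfsg.Geo Cfsg.Agent.H955 Cfsg.Agent.ClassicalGeometry.Reflection
open Cfsg.Agent.H884.El (pre mem_pre)
open Cfsg.Agent.LieClassical Cfsg.Agent.LieClassical.OmegaReindex Cfsg.Agent.LieClassical.OrthCore
open scoped MatrixGroups commutatorElement

section OddFrame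

variable {F : Type} [Field F] {m : ℕ}

/-- the anisotropic vector -/
def bW (F : Type) [Field F] (m : ℕ) : Unit ⊕ (Fin m ⊕ Fin m) → F := Pi.single (.inl ()) 1
/-- hyperbolic basis vectors, first half -/
def bX (F : Type) [Field F] {m : ℕ} (i : Fin m) : Unit ⊕ (Fin m ⊕ Fin m) → F := Pi.single (.inr (.inl i)) 1
/-- hyperbolic basis vectors, second half -/
def bY (F : Type) [Field F] {m : ℕ} (i : Fin m) : Unit ⊕ (Fin m ⊕ Fin m) → F := Pi.single (.inr (.inr i)) 1

theorem pol_W (u : Unit ⊕ (Fin m ⊕ Fin m) → F) : polar (quadOdd m F) (bW F m) u = 2 * u (.inl ()) := by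
  rw [polar_quadOdd]
  simp [bW]

theorem pol_X (i : Fin m) (u : Unit ⊕ (Fin m ⊕ Fin m) → F) :
    polar (quadOdd m F) (bX F i) u = u (.inr (.inr i)) := by
  rw [polar_quadOdd]
  simp [bX, Pi.single_apply]

theorem pol_Y (i : Fin m) (u : Unit ⊕ (Fin m ⊕ Fin m) → F) :
    polar (quadOdd m F) (bY F i) u = u (.inr (.inl i)) := by
  rw [polar_quadOdd]
  simp [bY, Pi.single_apply]

theorem q_W : quadOdd m F (bW F m) = 1 := by
  rw [coe_quadOdd]
  simp [Cfsg.quadFormOdd, bW]

theorem q_X (i : Fin m) : quadOdd m F (bX F i) = 0 := by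
  rw [coe_quadOdd]
  simp [Cfsg.quadFormOdd, bX, Pi.single_apply]

theorem q_Y (i : Fin m) : quadOdd m F (bY F i) = 0 := by
  rw [coe_quadOdd]
  simp [Cfsg.quadFormOdd, bY, Pi.single_apply]

/-- index type of the frame -/
abbrev Ix (k : ℕ) : Type := Option ((Fin k × Fin 2) ⊕ (Fin k × Fin 2))

/-- `X + Y` -/
def bP (F : Type) [Field F] {m : ℕ} (i : Fin m) : Unit ⊕ (Fin m ⊕ Fin m) → F := bX F i + bY F i
/-- `X - Y` -/
def bN (F : Type) [Field F] {m : ℕ} (i : Fin m) : Unit ⊕ (Fin m ⊕ Fin m) → F := bX F i - bY F i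

theorem pol_P (i : Fin m) (u : Unit ⊕ (Fin m ⊕ Fin m) → F) :
    polar (quadOdd m F) (bP F i) u = u (.inr (.inr i)) + u (.inr (.inl i)) := by
  rw [bP, polar_add_left, pol_X, pol_Y]

theorem pol_N (i : Fin m) (u : Unit ⊕ (Fin m ⊕ Fin m) → F) :
    polar (quadOdd m F) (bN F i) u = u (.inr (.inr i)) - u (.inr (.inl i)) := by
  rw [bN, polar_sub_left, pol_X, pol_Y]

theorem q_P (i : Fin m) : quadOdd m F (bP F i) = 1 := by
  rw [coe_quadOdd]
  simp [Cfsg.quadFormOdd, bP, bX, bY, Pi.single_apply]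

theorem q_aN {i j : Fin m} (hij : i ≠ j) (a b : F) : quadOdd m F (a • bN F i + b • bN F j) = -(a ^ 2 + b ^ 2) := by
  have h : ∀ l : Fin m, quadOdd m F (bN F l) = -1 := by
    intro l
    rw [coe_quadOdd]
    simp [Cfsg.quadFormOdd, bN, bX, bY, Pi.single_apply]
  have h2 : polar (quadOdd m F) (bN F i) (bN F j) = 0 := by
    rw [pol_N]
    simp [bN, bX, bY, hij]
  rw [Q_add, QuadraticMap.map_smul, QuadraticMap.map_smul, h, h, polar_smul_left, polar_smul_right, h2]
  simp only [smul_eq_mul]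
  ring

/-- the frame: `σ j 0`, `σ j 1` the `j`-th pair of indices -/
def frame {k : ℕ} (σ : Fin k × Fin 2 → Fin m) (a b : F) : Ix k → Unit ⊕ (Fin m ⊕ Fin m) → F
  | none => bW F m
  | some (.inl j) => bP F (σ j)
  | some (.inr (j, 0)) => a • bN F (σ (j, 0)) + b • bN F (σ (j, 1))
  | some (.inr (j, 1)) => (-b) • bN F (σ (j, 0)) + a • bN F (σ (j, 1))

theorem pol_WP (i : Fin m) : polar (quadOdd m F) (bW F m) (bP F i) = 0 := by
  rw [pol_W]; simp [bP, bX, bY]

theorem pol_WN (i : Fin m) : polar (quadOdd m F) (bW F m) (bN F i) = 0 := by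
  rw [pol_W]; simp [bN, bX, bY]

theorem pol_PP {i j : Fin m} (h : i ≠ j) : polar (quadOdd m F) (bP F i) (bP F j) = 0 := by
  rw [pol_P]; simp [bP, bX, bY, h]

theorem pol_PN (i j : Fin m) : polar (quadOdd m F) (bP F i) (bN F j) = 0 := by
  rw [pol_P]; simp [bN, bX, bY, Pi.single_apply]

theorem pol_NN {i j : Fin m} (h : i ≠ j) : polar (quadOdd m F) (bN F i) (bN F j) = 0 := by
  rw [pol_N]; simp [bN, bX, bY, h]

theorem pol_NN' (i : Fin m) : polar (quadOdd m F) (bN F i) (bN F i) = -2 := by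
  rw [pol_N]; simp [bN, bX, bY]; ring

theorem on_frame (h2 : (2 : F) ≠ 0) (hm : 2 ≤ m) {k : ℕ} {σ : Fin k × Fin 2 → Fin m} (hσ : Function.Bijective σ) {a b : F}
    (hab : a ^ 2 + b ^ 2 = -1) : ON (quadOdd m F) (frame σ a b) where
  one := by
    rintro (_ | j | ⟨j, t⟩)
    · exact q_W
    · exact q_P _
    · have h3 : σ (j, 0) ≠ σ (j, 1) := fun h => by simpa using hσ.1 h
      fin_cases t
      · show quadOdd m F (a • bN F (σ (j, 0)) + b • bN F (σ (j, 1))) = 1
        rw [q_aN h3, hab, neg_neg]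
      · show quadOdd m F ((-b) • bN F (σ (j, 0)) + a • bN F (σ (j, 1))) = 1
        rw [q_aN h3, neg_sq, add_comm, hab, neg_neg]
  orth := by
    -- reduce to ordered pairs
    have key1 : ∀ (l : Fin m) (c d : F) (i j : Fin m), polar (quadOdd m F) (bP F l) (c • bN F i + d • bN F j) = 0 := by
      intro l c d i j
      rw [polar_add_right, polar_smul_right, polar_smul_right, pol_PN, pol_PN, smul_zero, smul_zero, add_zero]
    have key2 : ∀ (c d : F) (i j : Fin m), polar (quadOdd m F) (bW F m) (c • bN F i + d • bN F j) = 0 := by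
      intro c d i j
      rw [polar_add_right, polar_smul_right, polar_smul_right, pol_WN, pol_WN, smul_zero, smul_zero, add_zero]
    have key3 : ∀ (c d c' d' : F) (i j i' j' : Fin m), i ≠ i' → i ≠ j' → j ≠ i' → j ≠ j' →
        polar (quadOdd m F) (c • bN F i + d • bN F j) (c' • bN F i' + d' • bN F j') = 0 := by
      intro c d c' d' i j i' j' h1 h2 h3 h4
      simp only [polar_add_right, polar_smul_right, polar_add_left, polar_smul_left, pol_NN h1, pol_NN h2, pol_NN h3,
        pol_NN h4, smul_zero, add_zero]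
    have key4 : ∀ (i j : Fin m), i ≠ j →
        polar (quadOdd m F) (a • bN F i + b • bN F j) ((-b) • bN F i + a • bN F j) = 0 := by
      intro i j h1
      simp only [polar_add_right, polar_smul_right, polar_add_left, polar_smul_left, pol_NN h1, pol_NN h1.symm, pol_NN',
        smul_eq_mul]
      ring
    have hN : ∀ (j : Fin k) (t : Fin 2), ∃ c d : F, frame σ a b (some (.inr (j, t))) =
        c • bN F (σ (j, 0)) + d • bN F (σ (j, 1)) := by
      intro j t
      fin_cases t
      · exact ⟨a, b, rfl⟩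
      · exact ⟨-b, a, rfl⟩
    rintro (_ | j | ⟨j, t⟩) (_ | j' | ⟨j', t'⟩) hne
    · exact absurd rfl hne
    · exact pol_WP _
    · obtain ⟨c, d, h⟩ := hN j' t'
      rw [h]
      exact key2 _ _ _ _
    · rw [polar_comm]
      exact pol_WP _
    · exact pol_PP fun h => hne (by rw [hσ.1 h])
    · obtain ⟨c, d, h⟩ := hN j' t'
      rw [h]
      exact key1 _ _ _ _ _
    · obtain ⟨c, d, h⟩ := hN j t
      rw [polar_comm, h]
      exact key2 _ _ _ _
    · obtain ⟨c, d, h⟩ := hN j t
      rw [polar_comm, h]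
      exact key1 _ _ _ _ _
    · by_cases hj : j = j'
      · subst hj
        have h3 : σ (j, 0) ≠ σ (j, 1) := fun h => by simpa using hσ.1 h
        fin_cases t <;> fin_cases t'
        · exact absurd rfl hne
        · exact key4 _ _ h3
        · rw [polar_comm]
          exact key4 _ _ h3
        · exact absurd rfl hne
      · obtain ⟨c, d, h⟩ := hN j t
        obtain ⟨c', d', h'⟩ := hN j' t'
        rw [h, h']
        have h4 : ∀ s s' : Fin 2, σ (j, s) ≠ σ (j', s') := fun s s' h => hj (congrArg Prod.fst (hσ.1 h))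
        exact key3 _ _ _ _ _ _ _ _ (h4 _ _) (h4 _ _) (h4 _ _) (h4 _ _)
  full := by
    intro u hu
    have hW : u (.inl ()) = 0 := by
      have h := hu none
      change polar (quadOdd m F) (bW F m) u = 0 at h
      rw [pol_W] at h
      exact (mul_eq_zero.1 h).resolve_left h2
    have hP : ∀ i, u (.inr (.inr i)) + u (.inr (.inl i)) = 0 := by
      intro i
      obtain ⟨j, rfl⟩ := hσ.2 i
      have h := hu (some (.inl j))
      change polar (quadOdd m F) (bP F (σ j)) u = 0 at h
      rwa [pol_P] at h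
    have hN : ∀ i, u (.inr (.inr i)) - u (.inr (.inl i)) = 0 := by
      intro i
      obtain ⟨⟨j, t⟩, rfl⟩ := hσ.2 i
      have h3 := hu (some (.inr (j, 0)))
      have h4 := hu (some (.inr (j, 1)))
      change polar (quadOdd m F) (a • bN F (σ (j, 0)) + b • bN F (σ (j, 1))) u = 0 at h3
      change polar (quadOdd m F) ((-b) • bN F (σ (j, 0)) + a • bN F (σ (j, 1))) u = 0 at h4
      rw [polar_add_left, polar_smul_left, polar_smul_left, pol_N, pol_N, smul_eq_mul, smul_eq_mul] at h3 h4
      fin_cases t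
      · show u (.inr (.inr (σ (j, 0)))) - u (.inr (.inl (σ (j, 0)))) = 0
        linear_combination (-a) * h3 + b * h4 + (u (.inr (.inr (σ (j, 0)))) - u (.inr (.inl (σ (j, 0))))) * hab
      · show u (.inr (.inr (σ (j, 1)))) - u (.inr (.inl (σ (j, 1)))) = 0
        linear_combination (-b) * h3 - a * h4 + (u (.inr (.inr (σ (j, 1)))) - u (.inr (.inl (σ (j, 1))))) * hab
    funext x
    rcases x with x | i | i
    · exact hW
    · have h3 : 2 * u (.inr (.inl i)) = 0 := by linear_combination hP i - hN i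
      exact (mul_eq_zero.1 h3).resolve_left h2
    · have h3 : 2 * u (.inr (.inr i)) = 0 := by linear_combination hP i + hN i
      exact (mul_eq_zero.1 h3).resolve_left h2
  three := by
    intro i j
    by_contra hcon
    push Not at hcon
    have h3 : (Finset.univ : Finset (Ix k)) ⊆ {i, j} := by
      intro x _
      rw [Finset.mem_insert, Finset.mem_singleton]
      by_cases hx : x = i
      · exact Or.inl hx
      · exact Or.inr (hcon x hx)
    have h4 := (Finset.card_le_card h3).trans Finset.card_le_two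
    rw [Finset.card_univ, Fintype.card_option, Fintype.card_sum, Fintype.card_prod, Fintype.card_fin,
      Fintype.card_fin] at h4
    have h5 := Fintype.card_of_bijective hσ
    rw [Fintype.card_prod, Fintype.card_fin, Fintype.card_fin, Fintype.card_fin] at h5
    omega

theorem exists_frame [Finite F] (h2 : (2 : F) ≠ 0) (hm : 2 ≤ m) (he : Even m) :
    ∃ (k : ℕ) (e : Ix k → Unit ⊕ (Fin m ⊕ Fin m) → F), ON (quadOdd m F) e := by
  obtain ⟨k, hk⟩ := he
  have σ : Fin k × Fin 2 ≃ Fin m := Fintype.equivOfCardEq (by simp; omega)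
  obtain ⟨p, hp⟩ := CharP.exists F
  have hp0 : NeZero p := ⟨fun h => by
    subst h
    have := CharP.charP_to_charZero F
    exact not_injective_infinite_finite _ (Nat.cast_injective (R := F))⟩
  obtain ⟨a, b, hab⟩ := CharP.sq_add_sq F p (-1)
  exact ⟨k, frame σ (a : F) (b : F), on_frame h2 hm σ.bijective (by rw [hab]; simp)⟩

end OddFrame

section Plus

variable {F : Type} [Field F] {m : ℕ}

/-- **the perpendicular space of a vector with square value has plus type** -/
theorem isPlus_of_sq (h2 : (2 : F) ≠ 0) {v : Unit ⊕ (Fin m ⊕ Fin m) → F} (hv : quadOdd m F v ≠ 0) {c : F}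
    (hc : quadOdd m F v = c ^ 2) : IsPlus (res (quadOdd m F) (perp (quadOdd m F) (Submodule.span F {v}))) := by
  have hc0 : c ≠ 0 := by
    rintro rfl
    exact hv (by rw [hc, zero_pow two_ne_zero])
  have hcW : quadOdd m F (c • bW F m) = c ^ 2 := by
    rw [QuadraticMap.map_smul, q_W, smul_eq_mul, mul_one, pow_two]
  obtain ⟨g, hg⟩ := exists_isom h2 (hc.trans hcW.symm) (by rw [hcW]; exact pow_ne_zero _ hc0)
  -- the embedding of the hyperbolic part
  let inc : (Fin m ⊕ Fin m → F) →ₗ[F] (Unit ⊕ (Fin m ⊕ Fin m) → F) :=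
    { toFun := fun w => Sum.elim (fun _ => 0) w
      map_add' := fun x y => by funext i; rcases i with i | i <;> simp
      map_smul' := fun r x => by funext i; rcases i with i | i <;> simp }
  let φ : (Fin m ⊕ Fin m → F) →ₗ[F] (Unit ⊕ (Fin m ⊕ Fin m) → F) := (Matrix.mulVecLin (mt g⁻¹)).comp inc
  have hφ : ∀ w, φ w = mt g⁻¹ *ᵥ inc w := fun w => rfl
  have hperp : ∀ w, φ w ∈ perp (quadOdd m F) (Submodule.span F {v}) := by
    intro w
    rw [mem_perp]
    intro x hx
    obtain ⟨r, rfl⟩ := Submodule.mem_span_singleton.1 hx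
    rw [polar_smul_left]
    have h3 : polar (quadOdd m F) v (φ w) = polar (quadOdd m F) (c • bW F m) (inc w) := by
      rw [← mt_polar g v (φ w), hg, hφ, mt_inv_vec]
    rw [h3, polar_smul_left, pol_W]
    show r • c • (2 * (0 : F)) = 0
    simp
  have hQ : ∀ w, quadOdd m F (φ w) = quadPlus m F w := by
    intro w
    rw [hφ, mt_isom, coe_quadOdd, coe_quadPlus]
    simp [Cfsg.quadFormOdd, Cfsg.quadFormPlus, inc]
  let ψ : (Fin m ⊕ Fin m → F) →ₗ[F] perp (quadOdd m F) (Submodule.span F {v}) := φ.codRestrict _ hperp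
  have hinj : Function.Injective ψ := by
    intro w w' h
    have h3 : φ w = φ w' := congrArg Subtype.val h
    rw [hφ, hφ] at h3
    have h4 := congrArg (fun x => mt g *ᵥ x) h3
    rw [mt_inv_vec, mt_inv_vec] at h4
    funext i
    exact congrFun h4 (.inr i)
  have hfr : finrank F (Fin m ⊕ Fin m → F) = finrank F (perp (quadOdd m F) (Submodule.span F {v})) := by
    rw [finrank_perp (nondeg_iff.2 (quadOdd_nondegenerate h2)), finrank_span_singleton, finrank_fintype_fun_eq_card,
      finrank_fintype_fun_eq_card]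
    · simp
    · rintro rfl
      exact hv (QuadraticMap.map_zero _)
  let E := LinearEquiv.ofInjectiveOfFinrankEq ψ hinj hfr
  exact IsPlus.of_equiv E (fun w => hQ w) (H884.El.isPlus_quadPlus m)

end Plus

/-- **the third case of `odd_miss` does not occur in odd index** -/
theorem no_third {F : Type} [Field F] [Finite F] {m : ℕ} (h2 : (2 : F) ≠ 0) (hm : 2 ≤ m)
    {R : Subgroup (POmega F ⇑(quadOdd m F))} (hR : Odd R.index) (he : Even m)
    {v : Unit ⊕ (Fin m ⊕ Fin m) → F} (hv : quadOdd m F v ≠ 0)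
    (hst : pre (⇑(quadOdd m F)) R ≤ subspaceStabilizer (Submodule.span F {v})) :
    IsPlus (res (quadOdd m F) (perp (quadOdd m F) (Submodule.span F {v}))) := by
  obtain ⟨k, e, h⟩ := exists_frame h2 hm he
  obtain ⟨c, hc⟩ := exists_sq h2 h hR hv hst
  exact isPlus_of_sq h2 hv hc

end Cfsg.Agent.H270.Odm
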