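import Cfsg.Agent.H453.OddM.RealOrth
import Cfsg.Agent.H501.RowOmega
import Cfsg.Agent.H264.FKS.Char
import Cfsg.Agent.H884.ElT

/-!
# S4785 (TEAM ODDM), B-ROW: every prime divisor of `|Ω_{2m+1}(q)|` is the order of a real element (helper270)
-/

set_option autoImplicit false

namespace Cfsg.Agent.H270.Odm

open Cfsg Cfsg.Agent.OrdDiv Cfsg.Agent.H436 Cfsg.Agent.H453.OddM

theorem realP_of_hasReal {p : ℕ} {G : Type*} [Group G] (h : H722.RealP.HasReal p G) : RealP G p := by
  obtain ⟨x, t, hx, -, h⟩ := h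
  exact ⟨x, hx, t, h⟩

theorem dvd_prB {r q : ℕ} (hr : r.Prime) : ∀ m, r ∣ prB q m → ∃ d, d ≠ 0 ∧ d ≤ m ∧ r ∣ q ^ (2 * d) - 1 := by
  intro m
  induction m with
  | zero =>
    intro h
    exact absurd (Nat.dvd_one.1 h) hr.one_lt.ne'
  | succ m ih =>
    intro h
    have h3 : prB q (m + 1) = prB q m * (q ^ (2 * (m + 1)) - 1) := by
      unfold prB
      rw [List.range_succ, List.map_append, List.prod_append]
      simp
    rw [h3] at h
    rcases (hr.dvd_mul).1 h with h | h
    · obtain ⟨d, h1, h2, h4⟩ := ih h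
      exact ⟨d, h1, by omega, h4⟩
    · exact ⟨m + 1, by omega, le_rfl, h⟩

theorem two_ne {F : Type} [Field F] [Fintype F] (hodd : Odd (Fintype.card F)) : (2 : F) ≠ 0 :=
  H390.two_ne_zero_of_odd hodd

/-- **all primes are orders of real elements** -/
theorem realP_all {F : Type} [Field F] [Fintype F] {m : ℕ} (hm : 3 ≤ m) (hodd : Odd (Fintype.card F)) {r : ℕ}
    (hr : r.Prime) (hd : r ∣ Nat.card (POmega F (quadFormOdd m F))) : RealP (POmega F (quadFormOdd m F)) r := by
  have hfin : Finite (POmega F (quadFormOdd m F)) := Quotient.finite _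
  have h2 := two_ne hodd
  by_cases hr2 : r = 2
  · subst hr2
    exact realP_two hd
  by_cases hrF : r ∣ Fintype.card F
  · have : Fact r.Prime := ⟨hr⟩
    have : CharP F r := H501.RowPSL.charP_of_dvd hr (by rw [Nat.card_eq_fintype_card]; exact hrF)
    have h3 : H722.RealP.HasReal r (Omega F (quadFormOdd m F)) :=
      H501.RowOmega.omega_def hm (H982.LawFam.gOdd F m) (H982.LawFam.gOdd_injective F m)
    exact realP_of_hasReal (H501.RealGen.HasReal.quot hr hr2 _ le_rfl h3)
  · have hT := (H264.FKS.named_oodd (F := F) hm hodd).eq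
    have h3 : 2 * Nat.card (POmega F (quadFormOdd m F)) =
        Fintype.card F ^ (m ^ 2) * prB (Fintype.card F) m := hT
    have h4 : r ∣ Fintype.card F ^ (m ^ 2) * prB (Fintype.card F) m := h3 ▸ hd.mul_left 2
    rcases (hr.dvd_mul).1 h4 with h4 | h4
    · exact absurd (hr.dvd_of_dvd_pow h4) hrF
    · obtain ⟨d, hd0, hdm, h5⟩ := dvd_prB hr m h4
      have h6 : Fintype.card F ^ (2 * d) - 1 = (Fintype.card F ^ d + 1) * (Fintype.card F ^ d - 1) := by
        have h5 : Fintype.card F ^ (2 * d) = (Fintype.card F ^ d) ^ 2 := by rw [← pow_mul, mul_comm]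
        rw [h5, ← Nat.sq_sub_sq, one_pow]
      rw [h6] at h5
      exact realP_oodd h2 (by omega) hd0 hdm (hr.odd_of_ne_two hr2) ((hr.dvd_mul).1 h5).symm

/-- **no prime is missed** -/
theorem not_miss {F : Type} [Field F] [Fintype F] {m : ℕ} (hm : 3 ≤ m) (hodd : Odd (Fintype.card F))
    {R : Subgroup (POmega F (quadFormOdd m F))} (hR : Cov _ R) : ¬ H884.El.Miss R := by
  rintro ⟨r, hr, h1, h2⟩
  exact h2 (hR.dvd (realP_all hm hodd hr h1))

end Cfsg.Agent.H270.Odm
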